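import Cfsg.Prelude.Def_LocalEven
import Cfsg.Agent.Classical.SL2Gen

/-!
# Coordinates on a faithful natural SL₂-module, adapted to a Sylow subgroup
-/

set_option autoImplicit false

namespace Cfsg.Agent.NatSL2

open Matrix Cfsg.Agent.Classical
open scoped MatrixGroups

variable {G : Type*} [Group G] {F : Type*} [Field F]

/-- A natural module with coordinates in which `T` is the upper root group. -/
structure Frame (F : Type*) [Field F] (V L T : Subgroup G) where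
  ρ : L ≃* SL(2, F)
  ψ : V ≃ (Fin 2 → F)
  ψ_mul : ∀ v w, ψ (v * w) = ψ v + ψ w
  conj_mem : ∀ (l : L) (v : V), (l : G) * v * (l : G)⁻¹ ∈ V
  equivar : ∀ (l : L) (v : V), ψ ⟨_, conj_mem l v⟩ = (ρ l : Matrix (Fin 2) (Fin 2) F) *ᵥ ψ v
  T_le : T ≤ L
  memT : ∀ l : L, (l : G) ∈ T ↔ ∃ t : F, ρ l = rootHomSL (Multiplicative.ofAdd t)

theorem exists_frame [Finite G] {p : ℕ} [Fact p.Prime] [Fintype F] (n : ℕ) (hF : Fintype.card F = p ^ n)
    (V L : Subgroup G) (hnat : Cfsg.IsNaturalSL2Module F V L)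
    (hf : L ⊓ Subgroup.centralizer (V : Set G) = ⊥) (S : Sylow p ↥L) (T : Subgroup G)
    (hT : T = ((S : Subgroup ↥L).map L.subtype)) : Nonempty (Frame F V L T) := by
  have : CharP F p := charP_of_card_eq_prime_pow hF
  obtain ⟨-, ρ, ψ, hsurj, hker, hact⟩ := hnat
  have hinj : Function.Injective ρ := by
    rw [← MonoidHom.ker_eq_bot_iff, hker, Subgroup.subgroupOf_eq_bot, disjoint_iff, inf_comm, hf]
  set e : L ≃* SL(2, F) := MulEquiv.ofBijective ρ ⟨hinj, hsurj⟩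
  let S' : Sylow p SL(2, F) := S.mapSurjective (f := e.toMonoidHom) e.surjective
  obtain ⟨g, hg⟩ := sylow_sl2_conj (F := F) p S'
  have hmem : ∀ (l : L) (v : V), (l : G) * v * (l : G)⁻¹ ∈ V := fun l v => by
    obtain ⟨w, hw, -⟩ := hact l v
    exact hw ▸ w.2
  let gi : SL(2, F) := g⁻¹
  have hinv : ∀ x, (g : Matrix (Fin 2) (Fin 2) F) *ᵥ ((gi : Matrix (Fin 2) (Fin 2) F) *ᵥ x) = x := fun x => by
    rw [mulVec_mulVec, ← Matrix.SpecialLinearGroup.coe_mul, mul_inv_cancel,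
      Matrix.SpecialLinearGroup.coe_one, one_mulVec]
  have hinv' : ∀ x, (gi : Matrix (Fin 2) (Fin 2) F) *ᵥ ((g : Matrix (Fin 2) (Fin 2) F) *ᵥ x) = x := fun x => by
    rw [mulVec_mulVec, ← Matrix.SpecialLinearGroup.coe_mul, inv_mul_cancel,
      Matrix.SpecialLinearGroup.coe_one, one_mulVec]
  refine ⟨{
    ρ := e.trans (MulAut.conj g⁻¹)
    ψ := { toFun := fun v => (gi : Matrix (Fin 2) (Fin 2) F) *ᵥ ψ (Additive.ofMul v)
           invFun := fun x => Additive.toMul (ψ.symm ((g : Matrix (Fin 2) (Fin 2) F) *ᵥ x))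
           left_inv := fun v => by simp only [hinv, AddEquiv.symm_apply_apply, toMul_ofMul]
           right_inv := fun x => by simp only [ofMul_toMul, AddEquiv.apply_symm_apply, hinv'] }
    ψ_mul := fun v w => by
      show (gi : Matrix (Fin 2) (Fin 2) F) *ᵥ ψ (Additive.ofMul (v * w)) = _
      rw [ofMul_mul, map_add, mulVec_add]
      rfl
    conj_mem := hmem
    equivar := fun l v => by
      obtain ⟨w, hw, hψ⟩ := hact l v
      have hwe : (⟨_, hmem l v⟩ : V) = w := Subtype.ext hw.symm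
      show (gi : Matrix (Fin 2) (Fin 2) F) *ᵥ ψ (Additive.ofMul _) =
        ((g⁻¹ * e l * g⁻¹⁻¹ : SL(2, F)) : Matrix (Fin 2) (Fin 2) F) *ᵥ ((gi : Matrix (Fin 2) (Fin 2) F) *ᵥ ψ _)
      rw [hwe, hψ, inv_inv, Matrix.SpecialLinearGroup.coe_mul, Matrix.SpecialLinearGroup.coe_mul,
        ← mulVec_mulVec, ← mulVec_mulVec, hinv]
      rfl
    T_le := hT ▸ Subgroup.map_subtype_le _
    memT := fun l => by
      have h1 : (l : G) ∈ T ↔ e l ∈ (S' : Subgroup SL(2, F)) := by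
        rw [hT]
        show _ ↔ e l ∈ (S : Subgroup L).map e.toMonoidHom
        rw [Subgroup.mem_map_equiv, e.symm_apply_apply]
        exact ⟨fun ⟨m, hm, hml⟩ => (Subtype.ext hml : m = l) ▸ hm, fun hl => ⟨l, hl, rfl⟩⟩
      rw [h1, hg, Subgroup.mem_map_equiv]
      show (∃ c, rootHomSL c = (MulAut.conj g).symm (e l)) ↔ _
      have h2 : (MulAut.conj g).symm (e l) = (e.trans (MulAut.conj g⁻¹)) l := by
        simp [MulAut.conj_symm_apply, MulAut.conj_apply]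
      rw [h2]
      exact ⟨fun ⟨c, hc⟩ => ⟨c.toAdd, hc.symm⟩, fun ⟨t, ht⟩ => ⟨_, ht.symm⟩⟩ }⟩

namespace Frame

variable {V L T : Subgroup G} (D : Frame F V L T)

/-- The element of `T` with parameter `t`. -/
def u (t : F) : L := D.ρ.symm (rootHomSL (Multiplicative.ofAdd t))

theorem ρ_u (t : F) : D.ρ (D.u t) = rootHomSL (Multiplicative.ofAdd t) := D.ρ.apply_symm_apply _

theorem u_mem (t : F) : (D.u t : G) ∈ T := (D.memT _).2 ⟨t, D.ρ_u t⟩

theorem exists_u {s : G} (hs : s ∈ T) : ∃ t, (D.u t : G) = s := by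
  obtain ⟨t, ht⟩ := (D.memT ⟨s, D.T_le hs⟩).1 hs
  exact ⟨t, by rw [show D.u t = ⟨s, D.T_le hs⟩ from D.ρ.injective ((D.ρ_u t).trans ht.symm)]⟩

theorem ψ_one : D.ψ 1 = 0 := by
  have h := D.ψ_mul 1 1
  rw [one_mul] at h
  exact left_eq_add.mp h

theorem ψ_inv (v : V) : D.ψ v⁻¹ = -D.ψ v := by
  refine eq_neg_of_add_eq_zero_left ?_
  rw [← D.ψ_mul, inv_mul_cancel, D.ψ_one]

include D in
theorem act_root (t : F) (x : Fin 2 → F) :
    (rootHomSL (Multiplicative.ofAdd t) : Matrix (Fin 2) (Fin 2) F) *ᵥ x = ![x 0 + t * x 1, x 1] := by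
  rw [rootHomSL_coe]
  funext i
  fin_cases i <;> simp [mulVec, dotProduct, Fin.sum_univ_two]

/-- A point of `V` commutes with `l ∈ L` iff it is fixed by `ρ l`. -/
theorem commute_iff (l : L) (v : V) :
    (l : G) * v = v * l ↔ (D.ρ l : Matrix (Fin 2) (Fin 2) F) *ᵥ D.ψ v = D.ψ v := by
  rw [← D.equivar, D.ψ.injective.eq_iff, Subtype.ext_iff]
  exact mul_inv_eq_iff_eq_mul.symm

include D in
theorem comm_mem (l : L) (v : V) : (v : G) * l * (v : G)⁻¹ * (l : G)⁻¹ ∈ V := by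
  have := V.mul_mem v.2 (D.conj_mem l v⁻¹)
  rwa [Subgroup.coe_inv, show (v : G) * (l * (v : G)⁻¹ * (l : G)⁻¹) = v * l * (v : G)⁻¹ * (l : G)⁻¹ by group] at this

theorem ψ_comm (l : L) (v : V) :
    D.ψ ⟨_, D.comm_mem l v⟩ = D.ψ v - (D.ρ l : Matrix (Fin 2) (Fin 2) F) *ᵥ D.ψ v := by
  have h : (⟨_, D.comm_mem l v⟩ : V) = v * ⟨_, D.conj_mem l v⁻¹⟩ := by
    refine Subtype.ext ?_
    simp only [Subgroup.coe_mul, Subgroup.coe_inv]
    group
  rw [h, D.ψ_mul, D.equivar, D.ψ_inv, mulVec_neg, sub_eq_add_neg]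

theorem mem_cent_iff {v : G} :
    v ∈ V ⊓ Subgroup.centralizer (T : Set G) ↔ ∃ hv : v ∈ V, D.ψ ⟨v, hv⟩ 1 = 0 := by
  rw [Subgroup.mem_inf, Subgroup.mem_centralizer_iff]
  constructor
  · rintro ⟨hv, h⟩
    refine ⟨hv, ?_⟩
    have h1 := (D.commute_iff (D.u 1) ⟨v, hv⟩).1 (h _ (D.u_mem 1))
    rw [D.ρ_u, D.act_root] at h1
    simpa using congrFun h1 0
  · rintro ⟨hv, h⟩
    refine ⟨hv, fun s hs => ?_⟩
    obtain ⟨t, rfl⟩ := D.exists_u hs
    refine (D.commute_iff (D.u t) ⟨v, hv⟩).2 ?_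
    rw [D.ρ_u, D.act_root, h]
    funext i
    fin_cases i <;> simp [h]

end Frame

end Cfsg.Agent.NatSL2
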